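import Groth.Prelude.Def_SGA1t
import Groth.Agent.H17.LocusBC
import Mathlib.RingTheory.Smooth.Basic

/-!
# Kummer schemes along relative normal crossings divisors are smooth at the points over the divisor
-/

set_option autoImplicit false
set_option linter.style.haveILetI false
set_option linter.unusedSectionVars false
set_option backward.isDefEq.respectTransparency false
set_option backward.isDefEq.respectTransparency.types false

universe u v

open CategoryTheory CategoryTheory.Limits AlgebraicGeometry Opposite IsLocalRing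

namespace Groth.Agent.H15Site.KummerSmooth

/-- Adjoining roots of coordinates of a formally smooth chart is formally smooth. -/
theorem formallySmooth_kummer {R A : Type u} [CommRing R] [CommRing A] [Algebra R A]
    {σ : Type u} [Algebra (MvPolynomial σ R) A] [IsScalarTower R (MvPolynomial σ R) A]
    [Algebra.FormallySmooth (MvPolynomial σ R) A]
    {ι : Type} (e : ι → σ) (he : Function.Injective e) (a : ι → A)
    (ha : ∀ i, algebraMap (MvPolynomial σ R) A (MvPolynomial.X (e i)) = a i) (n : ι → ℕ) :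
    Algebra.FormallySmooth R (SGA1t.kummer A a n) := by
  classical
  let J := Ideal.span (Set.range fun i => (MvPolynomial.X i : MvPolynomial ι A) ^ n i - MvPolynomial.C (a i))
  have hrel : ∀ i, (Ideal.Quotient.mk J (MvPolynomial.X i)) ^ n i = algebraMap A (SGA1t.kummer A a n) (a i) :=
    fun i => by
      rw [← map_pow]
      exact Ideal.Quotient.eq.2 (Ideal.subset_span ⟨i, rfl⟩)
  refine .of_comp_surjective fun C _ _ I hI g => ?_
  choose t ht using fun i => Ideal.Quotient.mk_surjective (g (Ideal.Quotient.mk J (MvPolynomial.X i)))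
  choose c hc using fun j => Ideal.Quotient.mk_surjective
    (g (algebraMap A (SGA1t.kummer A a n) (algebraMap (MvPolynomial σ R) A (MvPolynomial.X j))))
  let c' : σ → C := Function.extend e (fun i => t i ^ n i) c
  let α : MvPolynomial σ R →ₐ[R] C := MvPolynomial.aeval c'
  letI : Algebra (MvPolynomial σ R) C := α.toRingHom.toAlgebra
  let gA : A →ₐ[R] C ⧸ I := g.comp (IsScalarTower.toAlgHom R A _)
  have hcomm : gA.comp (IsScalarTower.toAlgHom R (MvPolynomial σ R) A) = (Ideal.Quotient.mkₐ R I).comp α := by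
    refine MvPolynomial.algHom_ext fun j => ?_
    show g (algebraMap A _ (algebraMap (MvPolynomial σ R) A (MvPolynomial.X j))) =
      Ideal.Quotient.mk I (MvPolynomial.aeval c' (MvPolynomial.X j))
    rw [MvPolynomial.aeval_X]
    by_cases hj : ∃ i, e i = j
    · obtain ⟨i, rfl⟩ := hj
      simp only [c', he.extend_apply]
      rw [map_pow, ht, ha, ← map_pow, hrel]
    · simp only [c', Function.extend_apply' _ _ _ hj]
      exact (hc j).symm
  let gP : A →ₐ[MvPolynomial σ R] C ⧸ I := { gA with commutes' := fun p => AlgHom.congr_fun hcomm p }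
  obtain ⟨F, hF⟩ := Algebra.FormallySmooth.comp_surjective (MvPolynomial σ R) A I hI gP
  have hFe : ∀ i, F (a i) = t i ^ n i := fun i => by
    rw [← ha i, F.commutes]
    show MvPolynomial.aeval c' (MvPolynomial.X (e i)) = _
    rw [MvPolynomial.aeval_X]
    exact he.extend_apply _ _ i
  let G₀ : MvPolynomial ι A →+* C := MvPolynomial.eval₂Hom F.toRingHom t
  have hJ : J ≤ RingHom.ker G₀ := by
    refine Ideal.span_le.2 ?_
    rintro _ ⟨i, rfl⟩
    simp [G₀, hFe]
  let G : SGA1t.kummer A a n →+* C := Ideal.Quotient.lift J G₀ fun x hx => hJ hx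
  have hFA : ∀ x : A, Ideal.Quotient.mk I (F x) = g (algebraMap A _ x) := fun x => AlgHom.congr_fun hF x
  have hFR : ∀ r : R, F (algebraMap R A r) = algebraMap R C r := fun r => by
    rw [IsScalarTower.algebraMap_apply R (MvPolynomial σ R) A, F.commutes]
    exact α.commutes r
  refine ⟨{ G with commutes' := fun r => ?_ }, ?_⟩
  · show G₀ (MvPolynomial.C (algebraMap R A r)) = _
    rw [MvPolynomial.eval₂Hom_C]
    exact hFR r
  · refine AlgHom.coe_ringHom_injective (Ideal.Quotient.ringHom_ext (MvPolynomial.ringHom_ext (fun x => ?_) fun i => ?_))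
    · show Ideal.Quotient.mk I (G₀ (MvPolynomial.C x)) = g (algebraMap A _ x)
      rw [MvPolynomial.eval₂Hom_C]
      exact hFA x
    · show Ideal.Quotient.mk I (G₀ (MvPolynomial.X i)) = g (Ideal.Quotient.mk J (MvPolynomial.X i))
      rw [MvPolynomial.eval₂Hom_X']
      exact ht i

/-- An étale map to affine space gives étale polynomial algebras on affine charts. -/
theorem etale_eval₂Hom {X S : Scheme.{u}} (f : X ⟶ S) {W : X.Opens} {σ : Type u}
    (v : σ → Γ(W, ⊤)) [Etale (AffineSpace.homOfVector (W.ι ≫ f) v)]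
    {U : S.Opens} (hU : IsAffineOpen U) {V : X.Opens} (hV : IsAffineOpen V) (hVW : V ≤ W) (hVU : V ≤ f ⁻¹ᵁ U) :
    RingHom.Etale (MvPolynomial.eval₂Hom (f.appLE U V hVU).hom
      fun i => (X.presheaf.map (homOfLE hVW).op).hom (W.topIso.hom.hom (v i))) := by
  haveI : IsAffine U := hU
  haveI : IsAffine V := hV
  haveI : IsOpenImmersion (AffineSpace.map σ U.ι) :=
    MorphismProperty.of_isPullback (AffineSpace.isPullback_map U.ι).flip inferInstance
  let j : (V : Scheme.{u}) ⟶ 𝔸(σ; (U : Scheme.{u})) :=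
    AffineSpace.homOfVector (f.resLE U V hVU) fun i => (X.homOfLE hVW).appTop (v i)
  have hj : j ≫ AffineSpace.map σ U.ι = X.homOfLE hVW ≫ AffineSpace.homOfVector (W.ι ≫ f) v := by
    refine AffineSpace.hom_ext ?_ fun i => ?_
    · simp [j, Scheme.Hom.resLE_comp_ι]
    · simp only [Scheme.Hom.comp_appTop, CommRingCat.comp_apply, AffineSpace.map_appTop_coord,
        AffineSpace.homOfVector_appTop_coord, j]
  haveI : Etale (j ≫ AffineSpace.map σ U.ι) := hj ▸ inferInstance
  haveI : Etale j := Etale.of_comp j (AffineSpace.map σ U.ι)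
  let k := j ≫ (AffineSpace.isoOfIsAffine σ (U : Scheme.{u})).hom
  have hk : RingHom.Etale k.appTop.hom :=
    (HasRingHomProperty.iff_of_isAffine (P := @Etale)).1 inferInstance
  let e₁ : CommRingCat.of (MvPolynomial σ Γ(S, U)) ≅ CommRingCat.of (MvPolynomial σ Γ((U : Scheme.{u}), ⊤)) :=
    (MvPolynomial.mapEquiv σ U.topIso.symm.commRingCatIsoToRingEquiv).toCommRingCatIso
  have key : CommRingCat.ofHom (MvPolynomial.eval₂Hom (f.appLE U V hVU).hom
      fun i => (X.presheaf.map (homOfLE hVW).op).hom (W.topIso.hom.hom (v i))) =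
      e₁.hom ≫ (Scheme.ΓSpecIso _).inv ≫ k.appTop ≫ V.topIso.hom := by
    simp only [k, Scheme.Hom.comp_appTop, AffineSpace.isoOfIsAffine_hom_appTop, Category.assoc,
      Iso.inv_hom_id_assoc]
    refine CommRingCat.hom_ext (MvPolynomial.ringHom_ext (fun r => ?_) fun i => ?_)
    · simp only [CommRingCat.hom_comp, CommRingCat.hom_ofHom, RingHom.comp_apply, MvPolynomial.eval₂Hom_C, e₁]
      simp only [RingEquiv.toCommRingCatIso_hom, CommRingCat.hom_ofHom,
        RingHom.coe_coe, MvPolynomial.mapEquiv_apply, MvPolynomial.map_C, MvPolynomial.eval₂Hom_C]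
      have h1 : (𝔸(σ; (U : Scheme.{u})) ↘ (U : Scheme.{u})).appTop ≫ j.appTop = (f.resLE U V hVU).appTop := by
        rw [← Scheme.Hom.comp_appTop, AffineSpace.homOfVector_over]
      have h2 : U.topIso.inv ≫ (f.resLE U V hVU).appTop ≫ V.topIso.hom = f.appLE U V hVU := by
        simp [Scheme.Hom.appTop, Scheme.Hom.resLE_app_top]
      rw [← h2, ← h1]
      rfl
    · simp only [CommRingCat.hom_comp, CommRingCat.hom_ofHom, RingHom.comp_apply, MvPolynomial.eval₂Hom_X', e₁]
      simp only [RingEquiv.toCommRingCatIso_hom, CommRingCat.hom_ofHom,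
        RingHom.coe_coe, MvPolynomial.mapEquiv_apply, MvPolynomial.map_X, MvPolynomial.eval₂Hom_X']
      rw [show j.appTop.hom (AffineSpace.coord _ i) = (X.homOfLE hVW).appTop.hom (v i) from
        AffineSpace.homOfVector_appTop_coord _ _ i]
      have h3 : (X.homOfLE hVW).appTop ≫ V.topIso.hom = W.topIso.hom ≫ X.presheaf.map (homOfLE hVW).op := by
        simp [Scheme.Hom.appTop, Scheme.homOfLE_app, Scheme.Opens.topIso, ← Functor.map_comp]
      exact (ConcreteCategory.congr_hom h3 (v i)).symm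
  show (CommRingCat.ofHom (MvPolynomial.eval₂Hom (f.appLE U V hVU).hom
      fun i => (X.presheaf.map (homOfLE hVW).op).hom (W.topIso.hom.hom (v i)))).hom.Etale
  rw [key]
  exact (RingHom.Etale.respectsIso.cancel_left_isIso e₁.hom _).2
    ((RingHom.Etale.respectsIso.cancel_left_isIso (Scheme.ΓSpecIso _).inv _).2
      ((RingHom.Etale.respectsIso.cancel_right_isIso k.appTop V.topIso.hom).2 hk))

theorem main {X S : Scheme.{u}} (f : X ⟶ S) {r : ℕ} (φ : Fin r → Γ(X, ⊤))
    (hD : SGA1t.IsRelSNC f φ) (x : X) (hx : Nonempty (SGA1t.vanishingAt φ x))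
    (n : SGA1t.vanishingAt φ x → ℕ) :
    letI A := X.presheaf.stalk x
    letI a : SGA1t.vanishingAt φ x → A := fun i => (X.presheaf.germ ⊤ x trivial).hom (φ i.1)
    letI π : Spec (CommRingCat.of (SGA1t.kummer A a n)) ⟶ Spec (CommRingCat.of A) :=
      Spec.map (CommRingCat.ofHom (algebraMap A (SGA1t.kummer A a n)))
    ∀ x' : Spec (CommRingCat.of (SGA1t.kummer A a n)),
      ((π ≫ X.fromSpecStalk x ≫ f).stalkMap x').hom.FormallySmooth := by
  intro x'
  let A := X.presheaf.stalk x
  let a : SGA1t.vanishingAt φ x → A := fun i => (X.presheaf.germ ⊤ x trivial).hom (φ i.1)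
  obtain ⟨W, hxW, d, v, e, he, hetale, hv⟩ := hD x hx
  obtain ⟨U, hU, hxU, -⟩ := exists_isAffineOpen_mem_and_subset (X := S) (x := f.base x) (U := ⊤) trivial
  obtain ⟨V, hV, hxV, hVle⟩ := exists_isAffineOpen_mem_and_subset (X := X) (x := x) (U := W ⊓ f ⁻¹ᵁ U) ⟨hxW, hxU⟩
  have hVW : V ≤ W := hVle.trans inf_le_left
  have hVU : V ≤ f ⁻¹ᵁ U := hVle.trans inf_le_right
  let ψ := MvPolynomial.eval₂Hom (f.appLE U V hVU).hom
      fun i => (X.presheaf.map (homOfLE hVW).op).hom (W.topIso.hom.hom (v i))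
  have hψ : ψ.Etale := etale_eval₂Hom f v hU hV hVW hVU
  letI : Algebra (MvPolynomial (ULift.{u} (Fin d)) Γ(S, U)) Γ(X, V) := ψ.toAlgebra
  haveI : Algebra.Etale (MvPolynomial (ULift.{u} (Fin d)) Γ(S, U)) Γ(X, V) := hψ
  letI : Algebra Γ(X, V) A := X.presheaf.algebra_section_stalk ⟨x, hxV⟩
  letI : Algebra (MvPolynomial (ULift.{u} (Fin d)) Γ(S, U)) A := ((algebraMap Γ(X, V) A).comp ψ).toAlgebra
  haveI : IsScalarTower (MvPolynomial (ULift.{u} (Fin d)) Γ(S, U)) Γ(X, V) A := IsScalarTower.of_algebraMap_eq' rfl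
  haveI : Algebra.FormallySmooth Γ(X, V) A :=
    haveI := hV.isLocalization_stalk ⟨x, hxV⟩
    Algebra.FormallySmooth.of_isLocalization (hV.primeIdealOf ⟨x, hxV⟩).asIdeal.primeCompl
  haveI : Algebra.FormallySmooth (MvPolynomial (ULift.{u} (Fin d)) Γ(S, U)) A :=
    Algebra.FormallySmooth.comp _ Γ(X, V) A
  letI : Algebra Γ(S, U) A := (f.appLE U V hVU ≫ X.presheaf.germ V x hxV).hom.toAlgebra
  haveI : IsScalarTower Γ(S, U) (MvPolynomial (ULift.{u} (Fin d)) Γ(S, U)) A :=
    IsScalarTower.of_algebraMap_eq fun r => congrArg (algebraMap Γ(X, V) A)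
      (MvPolynomial.eval₂Hom_C (f.appLE U V hVU).hom _ r).symm
  haveI : Algebra.FormallySmooth Γ(S, U) (SGA1t.kummer A a n) := by
    refine formallySmooth_kummer (fun i => ULift.up (e i)) (fun i j h => he (congrArg ULift.down h)) a (fun i => ?_) n
    show algebraMap Γ(X, V) A (ψ (MvPolynomial.X (ULift.up (e i)))) = _
    rw [MvPolynomial.eval₂Hom_X', hv i, Iso.inv_hom_id_apply, ← Functor.map_comp_apply]
    exact X.presheaf.germ_res_apply _ x hxV _
  have hfac : Spec.map (CommRingCat.ofHom (algebraMap A (SGA1t.kummer A a n))) ≫ X.fromSpecStalk x ≫ f =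
      Spec.map (CommRingCat.ofHom (algebraMap Γ(S, U) (SGA1t.kummer A a n))) ≫ hU.fromSpec := by
    rw [← hV.fromSpecStalk_eq_fromSpecStalk hxV, IsAffineOpen.fromSpecStalk, Category.assoc,
      ← IsAffineOpen.SpecMap_appLE_fromSpec f hU hV hVU, ← Spec.map_comp_assoc, ← Spec.map_comp_assoc]
    rfl
  show ((Spec.map (CommRingCat.ofHom (algebraMap A (SGA1t.kummer A a n))) ≫ X.fromSpecStalk x ≫ f).stalkMap x').hom.FormallySmooth
  have key : ∀ g, g = Spec.map (CommRingCat.ofHom (algebraMap Γ(S, U) (SGA1t.kummer A a n))) ≫ hU.fromSpec →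
      (g.stalkMap x').hom.FormallySmooth := by
    rintro g rfl
    rw [Scheme.Hom.stalkMap_comp, CommRingCat.hom_comp, RingHom.FormallySmooth.respectsIso.cancel_left_isIso]
    refine (H17.LocusBC.formallySmooth_stalkMap_Spec_iff x').2 ?_
    exact Algebra.FormallySmooth.comp _ (SGA1t.kummer A a n) _
  exact key _ hfac

end Groth.Agent.H15Site.KummerSmooth
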